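import Groth.Prelude.Def_CAlg2
import Groth.Agent.Lib.UHTower.Basic
import Mathlib.RingTheory.Localization.Integral
import Mathlib.Algebra.CharP.Algebra

/-!
# Geometrically unibranch rings and purely inseparable integral closures
-/

set_option autoImplicit false

universe u

open IsLocalRing GrothLib.UHTower

namespace GrothLib.UnibrNorm25

theorem eq_of_isGeomUnibranch {R K Ω : Type u} [CommRing R] [IsDomain R] [IsLocalRing R] [Field K]
    [Algebra R K] [IsFractionRing R K] (h : CAlg2.IsGeomUnibranch R) [Field Ω]
    (f g : integralClosure R K →+* Ω) (hfg : ∀ r, f (algebraMap R _ r) = g (algebraMap R _ r))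
    (hm : ∀ r ∈ maximalIdeal R, f (algebraMap R _ r) = 0) : f = g := by
  have hnil : nilradical R = ⊥ := nilradical_eq_zero R
  let q : R →+* CAlg2.red R := Ideal.Quotient.mk _
  have hq : Function.Bijective q :=
    ⟨fun a b e => by
      have := (Ideal.Quotient.mk_eq_mk_iff_sub_mem _ _).1 e
      rwa [hnil, Ideal.mem_bot, sub_eq_zero] at this, Ideal.Quotient.mk_surjective⟩
  let eq := RingEquiv.ofBijective q hq
  let _ : Algebra (CAlg2.red R) K := ((algebraMap R K).comp eq.symm.toRingHom).toAlgebra
  have hqa : ∀ r, algebraMap (CAlg2.red R) K (q r) = algebraMap R K r := fun r =>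
    congrArg (algebraMap R K) (eq.symm_apply_apply r)
  have : IsDomain (CAlg2.red R) := h.1.1
  have : IsFractionRing (CAlg2.red R) K := IsFractionRing.isFractionRing_iff_of_base_ringEquiv K eq |>.1 inferInstance
  let ε := FractionRing.algEquiv (CAlg2.red R) K
  have hint : ∀ z : K, IsIntegral (CAlg2.red R) z → IsIntegral R z := fun z ⟨P, hP, hP0⟩ => by
    refine ⟨P.map eq.symm.toRingHom, hP.map _, ?_⟩
    rw [Polynomial.eval₂_map]
    exact hP0
  let ψ : CAlg2.normRed R →+* integralClosure R K :=
    (ε.toAlgHom.toRingHom.comp (integralClosure (CAlg2.red R) (FractionRing (CAlg2.red R))).val.toRingHom).codRestrict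
      (integralClosure R K).toSubring fun z => hint _ (z.2.map ε.toAlgHom)
  have hψq : ∀ r, ψ (algebraMap (CAlg2.red R) _ (q r)) = algebraMap R _ r := fun r =>
    Subtype.ext ((ε.commutes (q r)).trans (hqa r))
  suffices hs : f.comp ψ = g.comp ψ by
    refine RingHom.ext fun z => ?_
    obtain ⟨P, hP, hP0⟩ := z.2
    have hz : IsIntegral (CAlg2.red R) (ε.symm (z : K)) := by
      refine IsIntegral.map ε.symm.toAlgHom ⟨P.map eq.toRingHom, hP.map _, ?_⟩
      rw [Polynomial.eval₂_map, show (algebraMap (CAlg2.red R) K).comp eq.toRingHom = algebraMap R K from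
        RingHom.ext hqa]
      exact hP0
    have e : ψ ⟨ε.symm z, hz⟩ = z := Subtype.ext (ε.apply_symm_apply _)
    rw [← e]
    exact RingHom.congr_fun hs _
  let N := CAlg2.normRed R
  let φ : R →+* N := (algebraMap (CAlg2.red R) N).comp q
  have hφ : φ.IsIntegral := RingHom.IsIntegral.trans q _ (RingHom.isIntegral_of_surjective q hq.2)
    (algebraMap_isIntegral_iff.2 inferInstance)
  let F := f.comp ψ
  let G := g.comp ψ
  have hFG : ∀ r, F (φ r) = G (φ r) := fun r =>
    (congrArg f (hψq r)).trans ((hfg r).trans (congrArg g (hψq r)).symm)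
  have hmax : ∀ H : N →+* Ω, (∀ r ∈ maximalIdeal R, H (φ r) = 0) → (RingHom.ker H).IsMaximal := fun H hH => by
    have hp : (RingHom.ker H).IsPrime := RingHom.ker_isPrime H
    have e : (RingHom.ker H).comap φ = maximalIdeal R :=
      le_antisymm (IsLocalRing.le_maximalIdeal (Ideal.comap_isPrime φ _).ne_top) fun r hr => hH r hr
    let _ : Algebra R N := φ.toAlgebra
    have : Algebra.IsIntegral R N := ⟨fun n => hφ n⟩
    exact Ideal.isMaximal_of_isIntegral_of_isMaximal_comap _ (by
      rw [show (RingHom.ker H).comap (algebraMap R N) = maximalIdeal R from e]; infer_instance)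
  have hmF := hmax F fun r hr => (congrArg f (hψq r)).trans (hm r hr)
  have hmG := hmax G fun r hr =>
    (congrArg g (hψq r)).trans ((hfg r).symm.trans (hm r hr))
  have : IsLocalRing N := h.1.2
  have eF : RingHom.ker F = RingHom.ker G :=
    (IsLocalRing.eq_maximalIdeal hmF).trans (IsLocalRing.eq_maximalIdeal hmG).symm
  refine RingHom.ext fun x => ?_
  obtain ⟨n, r, hr⟩ := h.2 (RingHom.ker F) (Ideal.Quotient.mk _ x)
  let p := ringExpChar (N ⧸ RingHom.ker F)
  have : ExpChar (N ⧸ RingHom.ker F) p :=
    haveI := hmF
    letI := Ideal.Quotient.field (RingHom.ker F)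
    ringExpChar.of_eq rfl
  have : ExpChar Ω p :=
    haveI := hmF
    letI := Ideal.Quotient.field (RingHom.ker F)
    expChar_of_injective_ringHom (RingHom.kerLift_injective F) p
  have hmem : x ^ p ^ n - φ r ∈ RingHom.ker F := by
    rw [← Ideal.Quotient.mk_eq_mk_iff_sub_mem, map_pow]
    exact hr.symm
  have h1 : F (x ^ p ^ n) = F (φ r) := by
    rwa [RingHom.mem_ker, map_sub, sub_eq_zero] at hmem
  have h2 : G (x ^ p ^ n) = G (φ r) := by
    rw [eF, RingHom.mem_ker, map_sub, sub_eq_zero] at hmem
    exact hmem
  rw [map_pow] at h1 h2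
  exact iterateFrobenius_inj Ω p n ((h1.trans (hFG r)).trans h2.symm)

theorem radic_of_geomUnibranch {A K L : Type u} [CommRing A] [IsDomain A] [Field K] [CommRing L]
    [Algebra A K] [IsFractionRing A K] [Algebra A L] [Algebra K L] [IsScalarTower A K L]
    (q : ℕ) [ExpChar K q] (hL : ∀ y : L, ∃ n : ℕ, y ^ q ^ n ∈ (algebraMap K L).range)
    (hinj : Function.Injective (algebraMap K L))
    (hA : ∀ (p : Ideal A) [p.IsPrime], ∃ (R : Type u) (_ : CommRing R) (_ : IsDomain R) (_ : IsLocalRing R)
      (_ : Algebra A R) (_ : IsLocalization.AtPrime R p) (_ : Algebra R K) (_ : IsScalarTower A R K)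
      (_ : IsFractionRing R K), CAlg2.IsGeomUnibranch R) :
    Radic (algebraMap A (integralClosure A L)) := by
  intro Ω _ f g hfg
  have hfgA : ∀ a, f (algebraMap A _ a) = g (algebraMap A _ a) := fun a => RingHom.congr_fun hfg a
  let p := RingHom.ker (f.comp (algebraMap A (integralClosure A L)))
  have hp : p.IsPrime := RingHom.ker_isPrime _
  obtain ⟨R, _, _, _, _, _, _, _, _, hR⟩ := hA p
  let ι : integralClosure A K →+* integralClosure A L :=
    ((IsScalarTower.toAlgHom A K L).mapIntegralClosure).toRingHom
  have hιA : ∀ a, ι (algebraMap A _ a) = algebraMap A _ a := fun a => AlgHom.commutes _ a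
  let j : integralClosure A K →+* integralClosure R K :=
    (integralClosure A K).val.toRingHom.codRestrict (integralClosure R K).toSubring fun z => z.2.tower_top
  let _ : Algebra (integralClosure A K) (integralClosure R K) := j.toAlgebra
  have : IsScalarTower (integralClosure A K) (integralClosure R K) K := IsScalarTower.of_algebraMap_eq fun _ => rfl
  have : IsScalarTower A (integralClosure A K) (integralClosure R K) := IsScalarTower.of_algebraMap_eq fun a =>
    Subtype.ext rfl
  have : IsLocalization (Algebra.algebraMapSubmonoid K p.primeCompl) K := by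
    refine IsLocalization.self fun x ⟨a, ha, e⟩ => ?_
    rw [← e]
    exact ((map_ne_zero_iff _ (IsFractionRing.injective A K)).2 fun h0 => ha (by rw [h0]; exact p.zero_mem)).isUnit
  have hloc := IsLocalization.integralClosure (R := A) (S := K) (Rf := R) (Sf := K) p.primeCompl
  have key : f.comp ι = g.comp ι := by
    have hu : ∀ (H : integralClosure A K →+* Ω), (∀ a ∈ p.primeCompl, H (algebraMap A _ a) ≠ 0) →
        ∀ s : Algebra.algebraMapSubmonoid (integralClosure A K) p.primeCompl, IsUnit (H s) := by
      rintro H hH ⟨_, a, ha, rfl⟩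
      exact (hH a ha).isUnit
    have hf0 : ∀ a ∈ p.primeCompl, (f.comp ι) (algebraMap A _ a) ≠ 0 := fun a ha h0 => ha (by
      rw [RingHom.comp_apply, hιA] at h0
      exact h0)
    have hg0 : ∀ a ∈ p.primeCompl, (g.comp ι) (algebraMap A _ a) ≠ 0 := fun a ha h0 => hf0 a ha (by
      rw [RingHom.comp_apply, hιA] at h0 ⊢
      rw [hfgA]; exact h0)
    let F : integralClosure R K →+* Ω := IsLocalization.lift (hu _ hf0)
    let G : integralClosure R K →+* Ω := IsLocalization.lift (hu _ hg0)
    have hFA : ∀ a, F (algebraMap A (integralClosure R K) a) = f (algebraMap A _ a) := fun a => by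
      rw [IsScalarTower.algebraMap_apply A (integralClosure A K) (integralClosure R K), IsLocalization.lift_eq,
        RingHom.comp_apply, hιA]
    have hGA : ∀ a, G (algebraMap A (integralClosure R K) a) = g (algebraMap A _ a) := fun a => by
      rw [IsScalarTower.algebraMap_apply A (integralClosure A K) (integralClosure R K), IsLocalization.lift_eq,
        RingHom.comp_apply, hιA]
    have hres : ∀ r : R, F (algebraMap R _ r) = G (algebraMap R _ r) := RingHom.congr_fun
      (IsLocalization.ringHom_ext p.primeCompl (RingHom.ext fun a => by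
        simp only [RingHom.comp_apply, ← IsScalarTower.algebraMap_apply]
        rw [hFA, hGA, hfgA]) : F.comp (algebraMap R _) = G.comp (algebraMap R _))
    have e := eq_of_isGeomUnibranch hR F G hres fun r hr => by
      obtain ⟨⟨a, s⟩, hrs⟩ := IsLocalization.surj p.primeCompl r
      have ha : a ∈ p := by
        rw [← IsLocalization.AtPrime.to_map_mem_maximal_iff R p, ← hrs]
        exact Ideal.mul_mem_right _ _ hr
      have h1 := congrArg (fun z => F (algebraMap R (integralClosure R K) z)) hrs
      simp only [map_mul, ← IsScalarTower.algebraMap_apply] at h1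
      rw [hFA, hFA, show f (algebraMap A _ a) = 0 from ha] at h1
      exact (mul_eq_zero.1 h1).resolve_right fun h0 => s.2 h0
    refine RingHom.ext fun z => ?_
    rw [← IsLocalization.lift_eq (S := integralClosure R K) (hu _ hf0) z,
      ← IsLocalization.lift_eq (S := integralClosure R K) (hu _ hg0) z]
    exact RingHom.congr_fun e _
  refine RingHom.ext fun b => ?_
  obtain ⟨n, c, hc⟩ := hL (b : L)
  have hci : IsIntegral A c := by
    refine IsIntegral.tower_bot (A := K) (B := L) hinj ?_
    rw [hc]
    exact b.2.pow _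
  have e : ι ⟨c, hci⟩ = b ^ q ^ n := Subtype.ext hc
  have h1 : f b ^ q ^ n = g b ^ q ^ n := by
    rw [← map_pow, ← map_pow, ← e]
    exact RingHom.congr_fun key _
  rcases ‹ExpChar K q› with _ | hp'
  · simpa using h1
  · have : CharP A q := (RingHom.charP_iff _ (IsFractionRing.injective A K) q).2 inferInstance
    have : CharP Ω q := (CharP.charP_iff_prime_eq_zero hp').2 (by
      have := congrArg (f.comp (algebraMap A (integralClosure A L))) (CharP.cast_eq_zero A q)
      rwa [map_natCast, map_zero] at this)
    have : ExpChar Ω q := ExpChar.prime hp'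
    exact iterateFrobenius_inj Ω q n h1

end GrothLib.UnibrNorm25
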